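import Groth.Agent.DimOneNhd.Integral
import Groth.Agent.S7662
import Groth.Agent.H23.RedSub

/-! Affine neighbourhoods of finitely many points of codimension at most one. -/

set_option linter.style.haveILetI false
set_option linter.unusedSectionVars false
set_option backward.isDefEq.respectTransparency false
set_option backward.isDefEq.respectTransparency.types false

universe u

open CategoryTheory CategoryTheory.Limits AlgebraicGeometry TopologicalSpace

namespace Groth.Agent.DimOneNhd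

theorem isSeparated_of_hom {X Y : Scheme.{u}} (f : X ⟶ Y) [IsSeparated f] [Y.IsSeparated] : X.IsSeparated :=
  ⟨by rw [← terminal.comp_from f]; infer_instance⟩

theorem exists_affine_nhd_of_finite (X : Scheme.{u}) [X.IsSeparated]
    (hX : (irreducibleComponents (X : Type u)).Finite) (T : Finset X)
    (hT : ∀ x ∈ T, IsNoetherianRing (X.presheaf.stalk x) ∧ ringKrullDim (X.presheaf.stalk x) ≤ 1) :
    ∃ U : X.Opens, IsAffineOpen U ∧ ∀ x ∈ T, x ∈ U := by
  classical
  refine S7662.result X hX T fun Z hZ => ?_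
  let Zc : Closeds X := ⟨Z, isClosed_of_mem_irreducibleComponents Z hZ⟩
  let Y := (Scheme.IdealSheafData.vanishingIdeal Zc).subscheme
  let ι := (Scheme.IdealSheafData.vanishingIdeal Zc).subschemeι
  have hr : Set.range ι = Z := H23.RedSub.range_vanishingIdeal Zc
  haveI : IsReduced Y := H23.RedSub.isReduced_vanishingIdeal Zc
  haveI : IrreducibleSpace Y := by
    haveI : PreirreducibleSpace Y := ⟨by
      intro u v hu hv ⟨y, _, hyu⟩ ⟨y', _, hyv⟩
      obtain ⟨u', hu', rfl⟩ := ι.isClosedEmbedding.toIsEmbedding.isInducing.isOpen_iff.1 hu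
      obtain ⟨v', hv', rfl⟩ := ι.isClosedEmbedding.toIsEmbedding.isInducing.isOpen_iff.1 hv
      obtain ⟨z, hz, hzu, hzv⟩ := hZ.1.isPreirreducible u' v' hu' hv' ⟨ι y, hr.le ⟨y, rfl⟩, hyu⟩
        ⟨ι y', hr.le ⟨y', rfl⟩, hyv⟩
      obtain ⟨w, rfl⟩ := hr.ge hz
      exact ⟨w, trivial, hzu, hzv⟩⟩
    haveI : Nonempty Y := by
      obtain ⟨z, hz⟩ := hZ.1.nonempty
      rw [← hr] at hz
      exact ⟨hz.choose⟩
    exact ⟨inferInstance⟩
  haveI : IsIntegral Y := isIntegral_of_irreducibleSpace_of_isReduced Y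
  haveI : Y.IsSeparated := isSeparated_of_hom ι
  let s : Finset Y := T.preimage ι ι.isClosedEmbedding.injective.injOn
  obtain ⟨V, hV, hsV⟩ := exists_affine_nhd s fun y hy => by
    obtain ⟨hn, hd⟩ := hT (ι y) (Finset.mem_preimage.1 hy)
    haveI := hn
    have hsurj : Function.Surjective (ι.stalkMap y).hom := ι.stalkMap_surjective y
    exact ⟨isNoetherianRing_of_surjective _ _ _ hsurj, (ringKrullDim_le_of_surjective _ hsurj).trans hd⟩
  refine ⟨V, hV, fun t ht htZ => ?_⟩
  obtain ⟨y, rfl⟩ : t ∈ Set.range ι := hr.ge htZ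
  exact ⟨y, hsV y (Finset.mem_preimage.2 ht), rfl⟩

theorem exists_affine_nhd_of_qc (X : Scheme.{u}) [X.IsSeparated]
    (hirr : ∀ U : X.Opens, IsCompact (U : Set X) → (irreducibleComponents (U : Set X)).Finite)
    (s : Finset X) (hs : ∀ x ∈ s, IsNoetherianRing (X.presheaf.stalk x) ∧ ringKrullDim (X.presheaf.stalk x) ≤ 1) :
    ∃ U : X.Opens, IsAffineOpen U ∧ ∀ x ∈ s, x ∈ U := by
  classical
  choose W hW hxW using fun x : X =>
    (exists_isAffineOpen_mem_and_subset (X := X) (x := x) (U := ⊤) trivial)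
  let V : X.Opens := ⨆ x : s, W x.1
  have hVc : IsCompact (V : Set X) := by
    rw [Opens.coe_iSup]
    exact isCompact_iUnion fun x => (hW x.1).isCompact
  have hmem : ∀ x ∈ s, x ∈ V := fun x hx => Opens.mem_iSup.2 ⟨⟨x, hx⟩, (hxW x).1⟩
  haveI : V.toScheme.IsSeparated := isSeparated_of_hom V.ι
  let pt : {x // x ∈ s} → V.toScheme := fun x => ⟨x.1, hmem x.1 x.2⟩
  have h := exists_affine_nhd_of_finite V.toScheme (hirr V hVc) (s.attach.image pt) (by
    intro y hy
    obtain ⟨⟨x, hx⟩, -, rfl⟩ := Finset.mem_image.1 hy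
    obtain ⟨hn, hd⟩ := hs x hx
    have e := (V.stalkIso (pt ⟨x, hx⟩)).commRingCatIsoToRingEquiv
    haveI : IsNoetherianRing (X.presheaf.stalk x) := hn
    exact ⟨isNoetherianRing_of_ringEquiv _ e.symm,
      ((ringKrullDim_eq_of_ringEquiv e).trans_le hd)⟩)
  obtain ⟨U, hU, hU'⟩ := h
  refine ⟨V.ι ''ᵁ U, hU.image_of_isOpenImmersion V.ι, fun x hx => ⟨⟨x, hmem x hx⟩, ?_, rfl⟩⟩
  exact hU' _ (Finset.mem_image.2 ⟨⟨x, hx⟩, Finset.mem_attach _ _, rfl⟩)

end Groth.Agent.DimOneNhd
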