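import Groth.Agent.DimOneNhd.Stalk
import Groth.Agent.S7660
import Groth.Agent.S7663
import Groth.Agent.S7665
import Mathlib.RingTheory.Valuation.ValuationSubring
import Mathlib.RingTheory.Spectrum.Prime.Topology

/-! Affine neighbourhoods of points of codimension one on integral separated schemes. -/

set_option linter.style.haveILetI false
set_option linter.unusedSectionVars false
set_option backward.isDefEq.respectTransparency false
set_option backward.isDefEq.respectTransparency.types false
set_option maxHeartbeats 800000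

universe u

open CategoryTheory CategoryTheory.Limits AlgebraicGeometry IsLocalRing TopologicalSpace

namespace Groth.Agent.DimOneNhd

variable {X : Scheme.{u}} [IsIntegral X]

/-- The local ring as a subring of the function field. -/
noncomputable def stalkSubring (x : X) : Subring X.functionField :=
  (algebraMap (X.presheaf.stalk x) X.functionField).range

noncomputable def stalkEquiv (x : X) : X.presheaf.stalk x ≃+* stalkSubring x :=
  RingEquiv.ofBijective (algebraMap (X.presheaf.stalk x) X.functionField).rangeRestrict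
    ⟨fun a b h => IsFractionRing.injective (X.presheaf.stalk x) X.functionField (congrArg Subtype.val h),
      RingHom.rangeRestrict_surjective _⟩

theorem isFractionRing_stalkSubring (x : X) : IsFractionRing (stalkSubring x) X.functionField := by
  refine IsFractionRing.of_field (stalkSubring x) X.functionField fun z => ?_
  obtain ⟨a, b, -, rfl⟩ := IsFractionRing.div_surjective (A := X.presheaf.stalk x) z
  exact ⟨⟨_, a, rfl⟩, ⟨_, b, rfl⟩, rfl⟩

theorem dim_le_zero {d : WithBot ℕ∞} (h : d ≤ 1) (h1 : d ≠ 1) : d ≤ 0 := by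
  induction d using WithBot.recBotCoe with
  | bot => exact bot_le
  | coe d =>
    have h' : d ≤ 1 := by exact_mod_cast h
    have h1' : d ≠ 1 := fun e => h1 (by rw [e]; rfl)
    have : d < 1 := lt_of_le_of_ne h' h1'
    rw [ENat.lt_one_iff_eq_zero] at this
    rw [this]; rfl

theorem fromSpecStalk_generic (x : X) :
    Spec.map (CommRingCat.ofHom (algebraMap (X.presheaf.stalk x) X.functionField)) ≫ X.fromSpecStalk x =
      X.fromSpecStalk (genericPoint X) :=
  X.SpecMap_stalkSpecializes_fromSpecStalk ((genericPoint_spec X).specializes trivial)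

theorem isDominant_specMap {R S : CommRingCat.{u}} (φ : R ⟶ S) (h : Function.Injective φ.hom) :
    IsDominant (Spec.map φ) := by
  refine ⟨?_⟩
  show DenseRange (PrimeSpectrum.comap φ.hom)
  rw [PrimeSpectrum.denseRange_comap_iff_ker_le_nilRadical, (RingHom.injective_iff_ker_eq_bot _).1 h]
  exact bot_le

/-- Distinct points of codimension one have local rings generating the function field. -/
theorem stalkSubring_sup [X.IsSeparated] {x y : X} (hx : IsNoetherianRing (X.presheaf.stalk x))
    (hdx : ringKrullDim (X.presheaf.stalk x) = 1) (hdy : ringKrullDim (X.presheaf.stalk y) = 1) (hxy : x ≠ y) :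
    stalkSubring x ⊔ stalkSubring y = ⊤ := by
  haveI := hx
  haveI := isFractionRing_stalkSubring x
  haveI := isFractionRing_stalkSubring y
  haveI : IsNoetherianRing (stalkSubring x) := isNoetherianRing_of_ringEquiv _ (stalkEquiv x)
  have hd : ringKrullDim (stalkSubring x) = 1 := (ringKrullDim_eq_of_ringEquiv (stalkEquiv x)).symm.trans hdx
  by_contra hne
  obtain ⟨O, hO, hxO, hyO⟩ := (S7663.result X.functionField (stalkSubring x) (stalkSubring y) hd).1 hne
  have key : ∀ z : X, ringKrullDim (X.presheaf.stalk z) = 1 → ∀ hzO : stalkSubring z ≤ O.toSubring,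
      ∃ φ : X.presheaf.stalk z →+* O, IsLocalHom φ ∧
        ∀ a, (φ a : X.functionField) = algebraMap (X.presheaf.stalk z) X.functionField a := by
    intro z hdz hzO
    let φ : X.presheaf.stalk z →+* O :=
      RingHom.codRestrict (algebraMap (X.presheaf.stalk z) X.functionField) O.toSubring
        (fun a => hzO ⟨a, rfl⟩)
    refine ⟨φ, ?_, fun a => rfl⟩
    haveI : Ring.KrullDimLE 1 (X.presheaf.stalk z) := Ring.krullDimLE_iff.2 hdz.le
    by_contra hloc
    have hker : (maximalIdeal O).comap φ = ⊥ := by
      rcases (Ring.krullDimLE_one_iff.1 inferInstance _ (Ideal.IsPrime.comap φ (K := maximalIdeal O))) with h | h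
      · rw [minimalPrimes_eq_minimals] at h
        exact le_bot_iff.1 (h.2 Ideal.isPrime_bot bot_le)
      · exact absurd ⟨fun a ha => by
          by_contra hna
          have : a ∈ (maximalIdeal O).comap φ := (IsLocalRing.eq_maximalIdeal h).symm ▸ (mem_maximalIdeal a).2 hna
          exact (mem_maximalIdeal _).1 (Ideal.mem_comap.1 this) ha⟩ hloc
    apply IsDiscreteValuationRing.not_isField O
    suffices hall : ∀ k : X.functionField, k ∈ O from
      ⟨⟨0, 1, zero_ne_one⟩, mul_comm, fun {w} hw => ⟨⟨(w : X.functionField)⁻¹, hall _⟩,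
        Subtype.ext (mul_inv_cancel₀ fun h => hw (Subtype.ext h))⟩⟩
    intro k
    obtain ⟨a, b, hb, rfl⟩ := IsFractionRing.div_surjective (A := X.presheaf.stalk z) k
    have hbu : IsUnit (φ b) := by
      by_contra hbu
      have : b ∈ (maximalIdeal O).comap φ := (mem_maximalIdeal _).2 hbu
      rw [hker, Ideal.mem_bot] at this
      exact nonZeroDivisors.ne_zero hb this
    obtain ⟨v, hv⟩ := hbu.exists_right_inv
    have hv' : algebraMap (X.presheaf.stalk z) X.functionField b * (v : X.functionField) = 1 :=
      congrArg Subtype.val hv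
    rw [div_eq_mul_inv, inv_eq_of_mul_eq_one_right hv']
    exact O.mul_mem _ _ (hzO ⟨a, rfl⟩) v.2
  obtain ⟨φx, hlx, hφx⟩ := key x hdx hxO
  obtain ⟨φy, hly, hφy⟩ := key y hdy hyO
  let ι : CommRingCat.of O ⟶ X.functionField := CommRingCat.ofHom O.subtype
  haveI : IsDominant (Spec.map ι) := isDominant_specMap ι Subtype.coe_injective
  have hcomp : ∀ (z : X) (φ : X.presheaf.stalk z →+* O),
      (∀ a, (φ a : X.functionField) = algebraMap (X.presheaf.stalk z) X.functionField a) →
        Spec.map ι ≫ Spec.map (CommRingCat.ofHom φ) ≫ X.fromSpecStalk z = X.fromSpecStalk (genericPoint X) := by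
    intro z φ h
    rw [← fromSpecStalk_generic z, ← Category.assoc, ← Spec.map_comp]
    congr 2
    ext a
    exact h a
  have he : Spec.map (CommRingCat.ofHom φx) ≫ X.fromSpecStalk x =
      Spec.map (CommRingCat.ofHom φy) ≫ X.fromSpecStalk y :=
    ext_of_isDominant (Spec.map ι) ((hcomp x φx hφx).trans (hcomp y φy hφy).symm)
  have h1 : ∀ (z : X) (φ : X.presheaf.stalk z →+* O), IsLocalHom φ →
      (Spec.map (CommRingCat.ofHom φ) ≫ X.fromSpecStalk z) (closedPoint O) = z := by
    intro z φ hφ
    haveI : IsLocalHom (CommRingCat.ofHom φ).hom := hφ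
    show X.fromSpecStalk z (Spec.map (CommRingCat.ofHom φ) (closedPoint (CommRingCat.of O))) = z
    rw [Spec_closedPoint, Scheme.fromSpecStalk_closedPoint]
  exact hxy (((h1 x φx hlx).symm.trans (congrArg (fun f : Spec (CommRingCat.of O) ⟶ X => f (closedPoint O)) he)).trans (h1 y φy hly))

theorem exists_affine_nhd [X.IsSeparated] (s : Finset X)
    (hs : ∀ x ∈ s, IsNoetherianRing (X.presheaf.stalk x) ∧ ringKrullDim (X.presheaf.stalk x) ≤ 1) :
    ∃ U : X.Opens, IsAffineOpen U ∧ ∀ x ∈ s, x ∈ U := by
  classical
  let s' := s.filter fun x => ringKrullDim (X.presheaf.stalk x) = 1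
  suffices h : ∃ U : X.Opens, IsAffineOpen U ∧ genericPoint X ∈ U ∧ ∀ x ∈ s', x ∈ U by
    obtain ⟨U, hU, hg, hU'⟩ := h
    refine ⟨U, hU, fun x hx => ?_⟩
    by_cases h1 : ringKrullDim (X.presheaf.stalk x) = 1
    · exact hU' x (Finset.mem_filter.2 ⟨hx, h1⟩)
    · rw [eq_genericPoint_of_dim_zero (x := x)]
      · exact hg
      · exact dim_le_zero (hs x hx).2 h1
  rcases s'.eq_empty_or_nonempty with h0 | hne
  · obtain ⟨U, hU, hg, -⟩ := exists_isAffineOpen_mem_and_subset (X := X) (x := genericPoint X) (U := ⊤) trivial
    exact ⟨U, hU, hg, fun x hx => absurd hx (h0 ▸ Finset.notMem_empty x)⟩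
  let r := s'.card
  have hr : 1 ≤ r := hne.card_pos
  let pt : Fin r → X := fun i => (s'.equivFin.symm i).1
  have hpt : ∀ i, pt i ∈ s' := fun i => (s'.equivFin.symm i).2
  have hinj : Function.Injective pt := Subtype.val_injective.comp s'.equivFin.symm.injective
  have hn : ∀ i, IsNoetherianRing (X.presheaf.stalk (pt i)) := fun i => (hs _ (Finset.mem_filter.1 (hpt i)).1).1
  have hd : ∀ i, ringKrullDim (X.presheaf.stalk (pt i)) = 1 := fun i => (Finset.mem_filter.1 (hpt i)).2
  let A : Fin r → Subring X.functionField := fun i => stalkSubring (pt i)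
  haveI : ∀ i, IsFractionRing (A i) X.functionField := fun i => isFractionRing_stalkSubring _
  haveI : ∀ i, IsNoetherianRing (A i) := fun i => by
    haveI := hn i
    exact isNoetherianRing_of_ringEquiv _ (stalkEquiv (pt i))
  have hdim : ∀ i, ringKrullDim (A i) = 1 := fun i =>
    (ringKrullDim_eq_of_ringEquiv (stalkEquiv (pt i))).symm.trans (hd i)
  have hsl : ∀ i, Finite (MaximalSpectrum (A i)) := fun i => by
    haveI : IsLocalRing (A i) := (stalkEquiv (pt i)).isLocalRing
    exact Finite.of_injective (fun _ => ()) fun p q _ =>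
      MaximalSpectrum.ext ((IsLocalRing.eq_maximalIdeal p.isMaximal).trans (IsLocalRing.eq_maximalIdeal q.isMaximal).symm)
  obtain ⟨-, -, -, hfr, hop, hcov, -⟩ := S7665.result X.functionField r hr A hdim hsl fun i j hij =>
    stalkSubring_sup (hn i) (hd i) (hd j) fun e => hij (hinj e)
  let R : CommRingCat.{u} := CommRingCat.of ↥(⨅ i, A i)
  let c : ∀ i, Spec (X.presheaf.stalk (pt i)) ⟶ Spec R := fun i =>
    Spec.map (CommRingCat.ofHom (stalkEquiv (pt i)).symm.toRingHom) ≫
      Spec.map (CommRingCat.ofHom (Subring.inclusion (iInf_le A i)))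
  haveI : ∀ i, IsOpenImmersion (c i) := fun i => by
    haveI := hop i
    haveI : IsIso (CommRingCat.ofHom (stalkEquiv (pt i)).symm.toRingHom) :=
      (ConcreteCategory.isIso_iff_bijective _).2 (stalkEquiv (pt i)).symm.bijective
    infer_instance
  let η : CommRingCat.of ↥(⨅ i, A i) ⟶ X.functionField := CommRingCat.ofHom (⨅ i, A i).subtype
  have hη : ∀ i, Spec.map (CommRingCat.ofHom (algebraMap (X.presheaf.stalk (pt i)) X.functionField)) ≫ c i =
      Spec.map η := fun i => by
    show _ ≫ _ ≫ _ = _
    rw [← Spec.map_comp, ← Spec.map_comp]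
    congr 1
    ext a
    exact congrArg Subtype.val ((stalkEquiv (pt i)).apply_symm_apply ⟨a.1, iInf_le A i a.2⟩)
  let 𝒰 : (Spec R).OpenCover := Scheme.Cover.mkOfCovers (ULift.{u} (Fin r)) (fun i => Spec (X.presheaf.stalk (pt i.down)))
    (fun i => c i.down) (fun m => by
      obtain ⟨i, y, hy⟩ := Set.mem_iUnion.1 (hcov.ge (Set.mem_univ m))
      haveI : IsIso (CommRingCat.ofHom (stalkEquiv (pt i)).symm.toRingHom) :=
        (ConcreteCategory.isIso_iff_bijective _).2 (stalkEquiv (pt i)).symm.bijective
      obtain ⟨w, hw⟩ := (Spec.map (CommRingCat.ofHom (stalkEquiv (pt i)).symm.toRingHom)).homeomorph.surjective y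
      exact ⟨ULift.up i, w, by
        show (Spec.map (CommRingCat.ofHom (Subring.inclusion (iInf_le A i)))) (Spec.map (CommRingCat.ofHom (stalkEquiv (pt i)).symm.toRingHom) w) = m
        rw [show Spec.map (CommRingCat.ofHom (stalkEquiv (pt i)).symm.toRingHom) w = y from hw]
        exact hy⟩) (fun i => inferInstanceAs (IsOpenImmersion (c i.down)))
  let f : Spec R ⟶ X := Scheme.Cover.glueMorphisms 𝒰 (fun i => X.fromSpecStalk (pt i.down)) fun i j => by
    let P := pullback (c i.down) (c j.down)
    let g : Spec X.functionField ⟶ P := pullback.lift _ _ ((hη i.down).trans (hη j.down).symm)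
    show pullback.fst (c i.down) (c j.down) ≫ _ = pullback.snd (c i.down) (c j.down) ≫ _
    let q := g (closedPoint X.functionField)
    haveI : IrreducibleSpace (Spec (X.presheaf.stalk (pt i.down))) := inferInstance
    haveI : Nonempty P := ⟨q⟩
    haveI : IsIntegral P := isIntegral_of_isOpenImmersion (pullback.fst (c i.down) (c j.down))
    haveI : IsDominant g := by
      refine ⟨?_⟩
      have hq : q = genericPoint P := by
        apply (pullback.fst (c i.down) (c j.down)).isOpenEmbedding.injective
        rw [genericPoint_eq_of_isOpenImmersion, genericPoint_eq_bot_of_affine]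
        show (g ≫ pullback.fst (c i.down) (c j.down)) (closedPoint X.functionField) = _
        rw [pullback.lift_fst]
        refine PrimeSpectrum.ext ?_
        show Ideal.comap (algebraMap (X.presheaf.stalk (pt i.down)) X.functionField) (maximalIdeal X.functionField) = ⊥
        rw [IsLocalRing.maximalIdeal_eq_bot, ← RingHom.ker_eq_comap_bot]
        exact (RingHom.injective_iff_ker_eq_bot _).1 (IsFractionRing.injective _ _)
      rw [DenseRange, dense_iff_closure_eq]
      apply Set.eq_univ_of_univ_subset
      rw [← (genericPoint_spec P).def, ← hq]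
      exact closure_mono (Set.singleton_subset_iff.2 ⟨_, rfl⟩)
    refine ext_of_isDominant g ?_
    rw [pullback.lift_fst_assoc, pullback.lift_snd_assoc, fromSpecStalk_generic, fromSpecStalk_generic]
  have hfc : ∀ i, c i ≫ f = X.fromSpecStalk (pt i) := fun i =>
    Scheme.Cover.ι_glueMorphisms 𝒰 _ _ (ULift.up i)
  let t : Fin r → (Spec R : Scheme.{u}) := fun i => c i (closedPoint (X.presheaf.stalk (pt i)))
  haveI : IsDomain R := inferInstanceAs (IsDomain ↥(⨅ i, A i))
  haveI : IrreducibleSpace (Spec R) := inferInstance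
  have hgen : ∀ η : Spec R, closure ({η} : Set (Spec R)) ∈ irreducibleComponents (Spec R : Type u) → η = genericPoint (Spec R) := by
    intro η hη
    rw [irreducibleComponents_eq_singleton, Set.mem_singleton_iff] at hη
    exact (show IsGenericPoint η Set.univ from hη).eq (genericPoint_spec _)
  have hfg : f (genericPoint (Spec R)) = genericPoint X := by
    obtain ⟨i⟩ : Nonempty (Fin r) := ⟨⟨0, hr⟩⟩
    rw [← genericPoint_eq_of_isOpenImmersion (c i), ← Scheme.Hom.comp_apply, hfc i]
    apply ((genericPoint_spec X).eq ?_).symm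
    have hsp : genericPoint X ∈ Set.range (X.fromSpecStalk (pt i)) := by
      rw [Scheme.range_fromSpecStalk]; exact (genericPoint_spec X).specializes (Set.mem_univ _)
    obtain ⟨w, hw⟩ := hsp
    have h2 : X.fromSpecStalk (pt i) (genericPoint (Spec (X.presheaf.stalk (pt i)))) ⤳ genericPoint X :=
      hw ▸ ((genericPoint_spec _).specializes (Set.mem_univ w)).map (X.fromSpecStalk (pt i)).continuous
    apply Set.eq_univ_of_univ_subset
    rw [← (genericPoint_spec X).def]
    exact closure_minimal (by simpa using specializes_iff_mem_closure.1 h2) isClosed_closure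
  obtain ⟨U, hU, hUt⟩ := S7660.result f (by rw [irreducibleComponents_eq_singleton]; exact Set.finite_singleton _)
    (fun η hη => by
      rw [hgen η hη]
      show closure {f (genericPoint (Spec R))} ∈ _
      rw [hfg, (genericPoint_spec X).def, irreducibleComponents_eq_singleton]
      rfl)
    (fun η η' hη hη' _ => (hgen η hη).trans (hgen η' hη').symm)
    (Finset.univ.image t) (by
      intro z hz
      obtain ⟨i, -, rfl⟩ := Finset.mem_image.1 hz
      exact (stalkMap_of_fac f (c i) (hfc i)).2)
  have hmem : ∀ i, pt i ∈ U := fun i => by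
    have h := hUt (t i) (Finset.mem_image_of_mem _ (Finset.mem_univ i))
    rwa [show f.base (t i) = pt i from (stalkMap_of_fac f (c i) (hfc i)).1] at h
  refine ⟨U, hU, ?_, fun x hx => ?_⟩
  · exact ((genericPoint_spec X).specializes (Set.mem_univ (pt ⟨0, hr⟩))).mem_open U.2 (hmem _)
  · have h := hmem (s'.equivFin ⟨x, hx⟩)
    rwa [show pt (s'.equivFin ⟨x, hx⟩) = x from congrArg Subtype.val (s'.equivFin.symm_apply_apply _)] at h

end Groth.Agent.DimOneNhd
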