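import Mathlib.AlgebraicGeometry.Stalk
import Mathlib.AlgebraicGeometry.Morphisms.Separated
import Mathlib.AlgebraicGeometry.FunctionField

/-! Spectra of local rings mapping to a scheme. -/

set_option backward.isDefEq.respectTransparency false
set_option backward.isDefEq.respectTransparency.types false

universe u

open CategoryTheory CategoryTheory.Limits AlgebraicGeometry IsLocalRing

namespace Groth.Agent.DimOneNhd

variable {X : Scheme.{u}}

/-- The stalk map of `Spec O_{X,x} → X` at the closed point is an isomorphism. -/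
theorem isIso_stalkMap_fromSpecStalk (x : X) :
    IsIso ((X.fromSpecStalk x).stalkMap (closedPoint (X.presheaf.stalk x))) := by
  let g := X.fromSpecStalk x
  have hx : g (closedPoint (X.presheaf.stalk x)) = x := Scheme.fromSpecStalk_closedPoint
  have h : Scheme.stalkClosedPointTo g = X.presheaf.stalkSpecializes (specializes_of_eq hx.symm) := by
    apply Spec.map_injective
    rw [← cancel_mono (X.fromSpecStalk (g (closedPoint (X.presheaf.stalk x)))),
      Scheme.Spec_stalkClosedPointTo_fromSpecStalk, Scheme.SpecMap_stalkSpecializes_fromSpecStalk]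
  have hi : IsIso (Scheme.stalkClosedPointTo g) := by
    rw [h]
    exact ⟨X.presheaf.stalkSpecializes (specializes_of_eq hx),
      by rw [TopCat.Presheaf.stalkSpecializes_comp, TopCat.Presheaf.stalkSpecializes_refl],
      by rw [TopCat.Presheaf.stalkSpecializes_comp, TopCat.Presheaf.stalkSpecializes_refl]⟩
  have : IsIso (g.stalkMap (closedPoint (X.presheaf.stalk x)) ≫ (stalkClosedPointIso (X.presheaf.stalk x)).hom) := hi
  exact IsIso.of_isIso_comp_right _ (stalkClosedPointIso (X.presheaf.stalk x)).hom

theorem stalkMap_of_fac {T : Scheme.{u}} (f : T ⟶ X) {x : X} (c : Spec (X.presheaf.stalk x) ⟶ T)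
    [IsOpenImmersion c] (h : c ≫ f = X.fromSpecStalk x) :
    f (c (closedPoint (X.presheaf.stalk x))) = x ∧ IsIso (f.stalkMap (c (closedPoint (X.presheaf.stalk x)))) := by
  refine ⟨?_, ?_⟩
  · rw [← Scheme.Hom.comp_apply, h, Scheme.fromSpecStalk_closedPoint]
  · have h1 : IsIso ((c ≫ f).stalkMap (closedPoint (X.presheaf.stalk x))) := by
      rw [Scheme.Hom.stalkMap_congr_hom _ _ h]
      haveI := isIso_stalkMap_fromSpecStalk x
      infer_instance
    rw [Scheme.Hom.stalkMap_comp] at h1
    exact IsIso.of_isIso_comp_right _ (c.stalkMap (closedPoint (X.presheaf.stalk x)))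

/-- A point with zero-dimensional local ring on an integral scheme is the generic point. -/
theorem eq_genericPoint_of_dim_zero [IsIntegral X] {x : X}
    (h : ringKrullDim (X.presheaf.stalk x) ≤ 0) : x = genericPoint X := by
  haveI : Ring.KrullDimLE 0 (X.presheaf.stalk x) := Ring.krullDimLE_iff.2 h
  have hg : genericPoint X ∈ Set.range (X.fromSpecStalk x) := by
    rw [Scheme.range_fromSpecStalk]; exact (genericPoint_spec X).specializes (Set.mem_univ _)
  obtain ⟨q, hq⟩ := hg
  have : q = closedPoint (X.presheaf.stalk x) :=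
    PrimeSpectrum.ext (IsLocalRing.eq_maximalIdeal (Ideal.isMaximal_iff_isPrime.2 q.isPrime))
  rw [← hq, this, Scheme.fromSpecStalk_closedPoint]

end Groth.Agent.DimOneNhd
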